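import Cfsg.Agent.Lib.FourShapes25.ModelWreathed
import Mathlib.LinearAlgebra.Matrix.ProjectiveSpecialLinearGroup

/-!
Models with both classes active inside projective special linear groups.
-/

set_option autoImplicit false
set_option linter.style.haveILetI false
set_option linter.unusedSectionVars false

namespace Cfsg.Agent.Lib.FusionRankTwo.Models

open Subgroup Cfsg Cfsg.Agent.Lib Cfsg.Agent.Lib.FourShapes25
open Cfsg.Agent.Lib.TwoGroups Cfsg.Agent.Lib.TwoGroups.Recognition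
open Cfsg.Agent.Lib.FusionPSL3
open Cfsg.FusionSystem

/-! ### Odd central quotients -/

section Quot

variable {G : Type*} [Group G] [Finite G] {Z : Subgroup G} [Z.Normal]

theorem eq_one_of_mem_odd (hZ : Odd (Nat.card Z)) {g : G} (hg : g ∈ Z) {m : ℕ} (hm : g ^ 2 ^ m = 1) :
    g = 1 := by
  have h1 : orderOf g ∣ Nat.card Z := by
    rw [← Subgroup.orderOf_mk g hg]
    exact orderOf_dvd_natCard _
  exact orderOf_eq_one_iff.1 (Nat.eq_one_of_dvd_coprimes
    ((Nat.coprime_two_left.2 hZ).pow_left m) (orderOf_dvd_of_pow_eq_one hm) h1)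

theorem orderOf_mk_odd (hZ : Odd (Nat.card Z)) {g : G} {m : ℕ} (hg : orderOf g = 2 ^ m) :
    orderOf (QuotientGroup.mk' Z g) = 2 ^ m := by
  rw [← hg]
  refine Nat.dvd_antisymm (orderOf_map_dvd _ g) (orderOf_dvd_of_pow_eq_one ?_)
  refine eq_one_of_mem_odd hZ (m := m) ((QuotientGroup.eq_one_iff _).1 ?_) ?_
  · show QuotientGroup.mk' Z (g ^ orderOf (QuotientGroup.mk' Z g)) = 1
    rw [map_pow, pow_orderOf_eq_one]
  · rw [← pow_mul, mul_comm, pow_mul, ← hg, pow_orderOf_eq_one, one_pow]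

theorem card_quot_odd {a o : ℕ} (hZ : Odd (Nat.card Z)) (ho : Odd o)
    (hG : Nat.card G = 2 ^ a * o) : ∃ o', Odd o' ∧ Nat.card (G ⧸ Z) = 2 ^ a * o' := by
  have h := Subgroup.card_eq_card_quotient_mul_card_subgroup Z
  rw [hG] at h
  have hd : Nat.card Z ∣ o :=
    ((Nat.coprime_two_right.2 hZ).pow_right a).dvd_of_dvd_mul_left ⟨_, h.trans (mul_comm _ _)⟩
  obtain ⟨o', rfl⟩ := hd
  refine ⟨o', (Nat.odd_mul.1 ho).2, ?_⟩
  refine Nat.eq_of_mul_eq_mul_right (Nat.card_pos (α := Z)) ?_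
  rw [← h]
  ring

end Quot

theorem odd_center_SL3 {F : Type*} [Field F] [Finite F] :
    Odd (Nat.card (Subgroup.center (Matrix.SpecialLinearGroup (Fin 3) F))) := by
  haveI : Fact (Nat.Prime 3) := ⟨Nat.prime_three⟩
  have hp : IsPGroup 3 (Subgroup.center (Matrix.SpecialLinearGroup (Fin 3) F)) := by
    intro a
    refine ⟨1, ?_⟩
    obtain ⟨r, hr, ha⟩ := Matrix.SpecialLinearGroup.mem_center_iff.1 a.2
    rw [Fintype.card_fin] at hr
    apply Subtype.ext
    apply Subtype.ext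
    rw [pow_one, Subgroup.coe_pow, Matrix.SpecialLinearGroup.coe_pow, ← ha, ← map_pow, hr, map_one]
    rfl
  obtain ⟨n, hn⟩ := IsPGroup.iff_card.1 hp
  rw [hn]
  exact Odd.pow (by decide)

theorem perfect_quot {G : Type*} [Group G] (h : commutator G = ⊤) (Z : Subgroup G) [Z.Normal] :
    commutator (G ⧸ Z) = ⊤ := by
  rw [_root_.commutator_def] at h ⊢
  rw [← Subgroup.map_top_of_surjective _ (QuotientGroup.mk'_surjective Z), ← Subgroup.map_commutator, h]

/-! ### Semidihedral -/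

/-- A model in `PSL₃` for a semidihedral group. -/
theorem sd_psl {k : ℕ} (hk : 1 ≤ k) : ∃ (p : ℕ) (_ : Fact p.Prime), Odd p ∧
    ∃ x y : Matrix.ProjectiveSpecialLinearGroup (Fin 3) (ZMod p),
      Witness (Matrix.ProjectiveSpecialLinearGroup (Fin 3) (ZMod p)) k (half k - 1) 0 x y ∧
        commutator (Matrix.ProjectiveSpecialLinearGroup (Fin 3) (ZMod p)) = ⊤ := by
  obtain ⟨p, o, hp, hp5, ho, hpo⟩ := exists_prime_neg_one (k + 1) (by omega)
  haveI := Fact.mk hp
  obtain ⟨x, y, hx, hy, -, hxy⟩ := exists_gl2_sd p (F := ZMod p) (m := k + 1) (by omega) ho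
    (by rw [ZMod.card]; exact hpo)
  have hper : commutator (Matrix.SpecialLinearGroup (Fin 3) (ZMod p)) = ⊤ :=
    Linear.commutator_SL_eq_top (by omega) fun h => absurd h (by omega)
  obtain ⟨o', ho', hpo'⟩ : ∃ o', Odd o' ∧ p - 1 = 2 * o' := by
    obtain ⟨t, rfl⟩ := ho
    refine ⟨2 ^ k * (2 * t + 1) - 1, ?_, by rw [pow_succ'] at hpo; rw [mul_assoc] at hpo; omega⟩
    have : 2 ∣ 2 ^ k * (2 * t + 1) := Dvd.dvd.mul_right (dvd_pow_self 2 (by omega)) _
    have : 0 < 2 ^ k * (2 * t + 1) := by positivity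
    rw [Nat.odd_iff]
    omega
  have hodd : Odd p := hp.odd_of_ne_two (by omega)
  set Z := Subgroup.center (Matrix.SpecialLinearGroup (Fin 3) (ZMod p))
  set π := QuotientGroup.mk' Z
  refine ⟨p, inferInstance, hodd, π (iota x), π (iota y), witness_sd hk ?_
    (by rw [← map_mul, ← map_mul, hy, map_one, map_one]) ?_ ?_, perfect_quot hper _⟩
  · exact orderOf_mk_odd odd_center_SL3 (by rw [orderOf_injective _ iota_injective, hx])
  · rw [← map_inv, ← map_mul, ← map_mul, ← map_inv iota, ← map_mul, ← map_mul, hxy, map_pow, map_pow]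
  · refine card_quot_odd odd_center_SL3 (o := p ^ 3 * (p ^ 2 + p + 1) * (o' * o') * o) ?_ ?_
    · refine ((hodd.pow.mul ?_).mul (ho'.mul ho')).mul ho
      obtain ⟨t, rfl⟩ := hodd
      exact ⟨2 * t ^ 2 + 3 * t + 1, by ring⟩
    · rw [card_SL3_prime, hpo, hpo']
      ring

/-! ### Dihedral -/

theorem center_SL2 {F : Type*} [Field F] :
    Subgroup.center (Matrix.SpecialLinearGroup (Fin 2) F) = zpowers ((jMat : Matrix.SpecialLinearGroup (Fin 2) F) * jMat) := by
  rw [jMat_sq]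
  refine le_antisymm (fun a ha => ?_) (zpowers_le.2 (Subgroup.mem_center_iff.2 diagS_neg_one_comm))
  obtain ⟨r, hr, hra⟩ := Matrix.SpecialLinearGroup.mem_center_iff.1 ha
  rw [Fintype.card_fin, sq_eq_one_iff] at hr
  have e : ∀ i j, a.1 i j = if i = j then r else 0 := fun i j => by
    rw [← hra, Matrix.scalar_apply, Matrix.diagonal_apply]
  rcases hr with rfl | rfl
  · rw [show a = 1 from sl2_ext (by simp [e]) (by simp [e]) (by simp [e]) (by simp [e])]
    exact one_mem _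
  · rw [show a = diagS (-1) from sl2_ext (by simp [e, diagS_val]) (by simp [e, diagS_val]) (by simp [e, diagS_val]) (by simp [e, diagS_val])]
    exact mem_zpowers _

/-- A model in `PSL₂` for a dihedral group of order at least eight. -/
theorem dih_psl (k : ℕ) : ∃ (p : ℕ) (_ : Fact p.Prime), Odd p ∧ p % 8 = 1 ∧
    ∃ x y : Matrix.ProjectiveSpecialLinearGroup (Fin 2) (ZMod p),
      Witness (Matrix.ProjectiveSpecialLinearGroup (Fin 2) (ZMod p)) k (-1) 0 x y ∧
        commutator (Matrix.ProjectiveSpecialLinearGroup (Fin 2) (ZMod p)) = ⊤ := by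
  obtain ⟨p, o, hp, hp5, ho, hpo⟩ := exists_prime_one (k + 1 + 2) (by omega)
  haveI := Fact.mk hp
  have h8 : p % 8 = 1 := by
    rw [hpo, show 2 ^ (k + 1 + 2) * o = 8 * (2 ^ k * o) by ring]
    omega
  obtain ⟨u, hu⟩ := exists_unit (p := p) (d := 2 ^ (k + 1 + 2)) ⟨o, by omega⟩
  have hd : orderOf (diagS u : Matrix.SpecialLinearGroup (Fin 2) (ZMod p)) = 2 ^ (k + 1 + 2) := by
    rw [orderOf_injective _ diagS_injective, hu]
  have hper : commutator (Matrix.SpecialLinearGroup (Fin 2) (ZMod p)) = ⊤ :=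
    Linear.commutator_SL_eq_top le_rfl fun _ => by rw [Nat.card_zmod]; omega
  obtain ⟨o', ho', hpo'⟩ : ∃ o', Odd o' ∧ p + 1 = 2 * o' := by
    refine ⟨2 ^ (k + 1 + 1) * o + 1, ?_, by rw [hpo, pow_succ]; ring⟩
    exact Even.add_one ((Nat.even_pow.2 ⟨even_two, by omega⟩).mul_right o)
  have hodd := hp.odd_of_ne_two (by omega)
  have W : Witness (Matrix.SpecialLinearGroup (Fin 2) (ZMod p)) (k + 1) (-1)
      (FourShapes25.half (k + 1)) (diagS u) jMat := by
    refine ⟨Or.inl ⟨rfl, Or.inr rfl⟩, hd, jMat_notMem u, jMat_witness_conj hd, jMat_witness_sq hu,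
      ⟨p * o * o', (hodd.mul ho).mul ho', ?_⟩⟩
    rw [card_SL2_prime, hpo', show p - 1 = 2 ^ (k + 1 + 2) * o by omega]
    ring
  exact ⟨p, inferInstance, hodd, h8, _, _, W.quotient center_SL2, perfect_quot hper _⟩

/-! ### Wreathed -/

open Cfsg.Agent.Lib.FourShapes25.Wr Cfsg.Agent.Lib.FourShapes25.WreathedShape in
/-- A model in `PSL₃` for a wreathed group. -/
theorem wr_psl (k : ℕ) : ∃ (p : ℕ) (_ : Fact p.Prime), Odd p ∧
    ∃ (T : Sylow 2 (Matrix.ProjectiveSpecialLinearGroup (Fin 3) (ZMod p)))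
      (x y z : (T : Subgroup (Matrix.ProjectiveSpecialLinearGroup (Fin 3) (ZMod p))))
      (D : Wreathed.Data k x y z), ∀ q, HasThree ((groupFusionSystem
        (T : Subgroup (Matrix.ProjectiveSpecialLinearGroup (Fin 3) (ZMod p)))).autGroup (Wr.cand D q)) := by
  obtain ⟨p, o, o', hp, hp5, ho, ho', hpo, hpo'⟩ := exists_wreathed_prime k
  haveI := Fact.mk hp
  obtain ⟨u, hu⟩ := Fusion.SylowRecognize.exists_orderOf (C := (ZMod p)ˣ) (d := 2 ^ (k + 2))
    (by rw [Nat.card_units, Nat.card_zmod, hpo, Nat.add_sub_cancel]; exact dvd_mul_right _ _)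
  obtain ⟨hx, hxy, hd, hz, hzx⟩ := gl2_basis u hu
  have hper : commutator (Matrix.SpecialLinearGroup (Fin 3) (ZMod p)) = ⊤ :=
    Linear.commutator_SL_eq_top (by omega) fun h => absurd h (by omega)
  have hodd : Odd p := hp.odd_of_ne_two (by omega)
  set Z := Subgroup.center (Matrix.SpecialLinearGroup (Fin 3) (ZMod p))
  set π := QuotientGroup.mk' Z with hπ
  have hperq : commutator (Matrix.ProjectiveSpecialLinearGroup (Fin 3) (ZMod p)) = ⊤ := perfect_quot hper _
  have hox : orderOf (π (iota (diagU u 1))) = 2 ^ (k + 2) :=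
    orderOf_mk_odd odd_center_SL3 (by rw [orderOf_injective _ iota_injective, hx])
  have hdisj : zpowers (π (iota (diagU u 1))) ⊓ zpowers (π (iota (diagU 1 u))) = ⊥ := by
    refine (Subgroup.eq_bot_iff_forall _).2 ?_
    rintro g ⟨⟨i, rfl⟩, ⟨j, hj⟩⟩
    have hc : Commute (diagU u 1 : GL (Fin 2) (ZMod p)) (diagU 1 u) := hxy
    have hy2 : (diagU 1 u : GL (Fin 2) (ZMod p)) ^ 2 ^ (k + 2) = 1 := by
      rw [← hzx, conj_pow, pow_eq_one_of_orderOf hx, mul_one, mul_inv_cancel]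
    set d : GL (Fin 2) (ZMod p) := diagU u 1 ^ i * (diagU 1 u ^ j)⁻¹ with hdd
    have hmem : iota d ∈ Z := by
      rw [← QuotientGroup.eq_one_iff]
      show π (iota d) = 1
      rw [hdd, map_mul, map_inv, map_zpow, map_zpow, map_mul, map_inv, map_zpow, map_zpow]
      exact mul_inv_eq_one.2 hj.symm
    have hd2 : d ^ 2 ^ (k + 2) = 1 := by
      rw [hdd, (hc.zpow_zpow i j).inv_right.mul_pow, inv_pow, ← zpow_natCast, ← zpow_natCast, ← zpow_mul,
        ← zpow_mul, mul_comm i, mul_comm j, zpow_mul, zpow_mul, zpow_natCast, zpow_natCast,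
        pow_eq_one_of_orderOf hx, hy2, one_zpow, one_zpow, inv_one, mul_one]
    have h1 : iota d = 1 := eq_one_of_mem_odd odd_center_SL3 hmem (m := k + 2) (by rw [← map_pow, hd2, map_one])
    have h2 : d = 1 := iota_injective (h1.trans (map_one _).symm)
    have h3 : diagU u 1 ^ i ∈ zpowers (diagU u 1 : GL (Fin 2) (ZMod p)) ⊓ zpowers (diagU 1 u) :=
      ⟨⟨i, rfl⟩, ⟨j, (mul_inv_eq_one.1 h2).symm⟩⟩
    rw [hd, Subgroup.mem_bot] at h3
    show π (iota (diagU u 1)) ^ i = 1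
    rw [← map_zpow, ← map_zpow, h3, map_one, map_one]
  obtain ⟨T, x', y', z', D, hx', -, hz'⟩ := exists_wreathed (k := k) (x := π (iota (diagU u 1)))
    (y := π (iota (diagU 1 u))) (z := π (iota (swapU : GL (Fin 2) (ZMod p))))
    hox (by rw [← map_mul, ← map_mul, hxy, map_mul, map_mul])
    hdisj
    (orderOf_mk_odd odd_center_SL3 (m := 1) (by rw [orderOf_injective _ iota_injective, hz, pow_one]) |>.trans (pow_one 2))
    (by rw [← map_inv, ← map_mul, ← map_mul, ← map_inv iota, ← map_mul, ← map_mul, hzx])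
    (card_quot_odd odd_center_SL3 (o := p ^ 3 * (p ^ 2 + p + 1) * (o * o) * o') (by
      refine ((hodd.pow.mul ?_).mul (ho.mul ho)).mul ho'
      obtain ⟨t, rfl⟩ := hodd
      exact ⟨2 * t ^ 2 + 3 * t + 1, by ring⟩) (by
      rw [card_SL3_prime, hpo', show p - 1 = 2 ^ (k + 2) * o by omega]
      ring))
  refine ⟨p, inferInstance, hodd, T, x', y', z', D, fun q => ?_⟩
  cases q
  · exact flag_base_of_mem D (g := Wreathed.el k x' y' 1 0) (hperq ▸ mem_top _) (x_notMem_evenSum D)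
  · exact flag_qz_of_mem D (g := z') (hperq ▸ mem_top _) D.z_notMem

end Cfsg.Agent.Lib.FusionRankTwo.Models
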