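import Cfsg.Agent.Lib.FusionRankTwo.Realizable
import Cfsg.Agent.Lib.FusionSystem.PPowerExists
import Cfsg.Agent.Lib.FusionSystem.Inter.GenFitting
import Cfsg.Agent.Lib.FusionP3.GT.Reduce
import Cfsg.Agent.Lib.PGroups.Frattini

/-!
Simple fusion systems: the hyperfocal subgroup is everything and nothing is normal.
-/

set_option autoImplicit false
set_option linter.style.haveILetI false

namespace Cfsg.Agent.Lib.FusionRankTwo.Simple

open Cfsg Cfsg.FusionSystem Cfsg.Agent.Lib Cfsg.Agent.Lib.FS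

variable {Ω : Type*} [Group Ω] {S : Subgroup Ω} [Finite S] {F : FusionSystem S} {p : ℕ} [Fact p.Prime]

/-- A simple system over more than `p` elements is its own residual. -/
theorem hyperfocal_eq (hS : IsPGroup p S) (hs : F.IsSimple p) (hcard : Nat.card S ≠ p) :
    F.hyperfocalSubgroup p = S := by
  obtain ⟨hF, hne, hN⟩ := hs
  set T := F.hyperfocalSubgroup p with hT
  have hTS : T ≤ S := FusionP3.Tate.hyperfocal_le F p
  by_contra hlt
  have hne' : T.subgroupOf S ≠ ⊤ := fun h => hlt (le_antisymm hTS (Subgroup.subgroupOf_eq_top.1 h))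
  obtain ⟨M, hM, hTM⟩ := (eq_top_or_exists_le_coatom (T.subgroupOf S)).resolve_left hne'
  set T₁ : Subgroup Ω := M.map S.subtype with hT₁
  have hT₁S : T₁ ≤ S := Subgroup.map_subtype_le M
  have hMeq : T₁.subgroupOf S = M := Subgroup.comap_map_eq_self_of_injective S.subtype_injective M
  have hTT₁ : T ≤ T₁ := fun x hx => ⟨⟨x, hTS hx⟩, hTM (Subgroup.mem_subgroupOf.2 hx), rfl⟩
  have hnorm : (T₁.subgroupOf S).Normal := hMeq.symm ▸ PGroups.coatom_normal hS hM
  obtain ⟨E, hE, hEi⟩ := PPowerKernel.exists_pPower hS F hF hT₁S hTT₁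
  rcases hN T₁ E (FusionP3.Prime.PPower.isNormalIn_of_pPowerIndex hS hF hT₁S hnorm hTT₁ hE hEi) with
    h | ⟨h, -⟩
  · have hidx := PGroups.coatom_index hS hM
    have hM0 : M = ⊥ := (Subgroup.map_eq_bot_iff_of_injective M S.subtype_injective).1 h
    rw [hM0, Subgroup.index_bot] at hidx
    exact hcard hidx
  · exact hM.1 (hMeq ▸ Subgroup.subgroupOf_eq_top.2 h.ge)

/-- Nothing but the trivial group is normal in a simple system over more than `p` elements. -/
theorem eq_bot_of_isNormal (hS : IsPGroup p S) (hs : F.IsSimple p) (hcard : Nat.card S ≠ p)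
    {Q : Subgroup Ω} (hQ : F.IsNormal Q) : Q = ⊥ := by
  have hF := hs.1
  have hne := hs.2.1
  rcases hs.2.2 Q (innerFusionSystem Q) (Inter.inner_isNormalIn hS hF hQ) with h | ⟨rfl, heq⟩
  · exact h
  exfalso
  refine hne ((hyperfocal_eq hS hs hcard).symm.trans (FusionP3.GT.hyperfocal_eq_bot_of_ptriv ?_))
  intro P hP α hα hco
  have h1 : α ∈ (innerFusionSystem Q).autGroup P := by
    obtain ⟨φ, hφ, -, he⟩ := exists_hom_of_aut hP hα
    exact mem_autGroup_of_hom (heq P ▸ hφ) fun x => (he x).symm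
  have hpg : IsPGroup p ((innerFusionSystem Q).autGroup P) := by
    refine (isPGroup_autInducedBy hS P).to_le fun a ha => ?_
    obtain ⟨-, g, hg, e⟩ := (mem_autGroup hP).mp ha
    exact mem_autInducedBy.2 ⟨g, hg, e⟩
  obtain ⟨n, hn⟩ := hpg ⟨α, h1⟩
  have hn' : α ^ p ^ n = 1 := congrArg Subtype.val hn
  exact orderOf_eq_one_iff.1 (by
    obtain ⟨j, -, hj⟩ := (Nat.dvd_prime_pow (Fact.out : p.Prime)).1 (orderOf_dvd_of_pow_eq_one hn')
    rcases j with _ | j
    · rw [hj, pow_zero]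
    · rw [hj] at hco
      exact absurd (Nat.eq_one_of_dvd_coprimes hco (dvd_pow_self p (by omega)) dvd_rfl) (Fact.out : p.Prime).ne_one)

theorem center_eq_bot (hS : IsPGroup p S) (hs : F.IsSimple p) (hcard : Nat.card S ≠ p) :
    F.center = ⊥ := by
  refine eq_bot_iff.2 (sSup_le fun Q hQ => ?_)
  refine (eq_bot_of_isNormal hS hs hcard ⟨hQ.1, fun P φ hφ => ?_⟩).le
  obtain ⟨ψ, hψ, he, hfix⟩ := hQ.2 P φ hφ
  refine ⟨ψ, hψ, he, ?_⟩
  ext w
  constructor
  · rintro ⟨⟨v, hv⟩, hvQ, rfl⟩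
    exact (hfix ⟨v, hvQ⟩).symm ▸ Subgroup.mem_subgroupOf.1 hvQ
  · intro hw
    exact ⟨⟨w, (le_sup_right : Q ≤ P ⊔ Q) hw⟩, Subgroup.mem_subgroupOf.2 hw, hfix ⟨w, hw⟩⟩

/-- A subgroup catching all displacements catches everything. -/
theorem le_of_displacements (hS : IsPGroup p S) (hs : F.IsSimple p) (hcard : Nat.card S ≠ p)
    {M : Subgroup Ω} (h : ∀ (P : Subgroup Ω) (φ : P →* Ω), φ ∈ F.Hom P → ∀ x : P, (x : Ω)⁻¹ * φ x ∈ M) :
    S ≤ M := by
  rw [← hyperfocal_eq hS hs hcard]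
  refine (FusionP3.Tate.hyperfocal_le_focal F p).trans ((Subgroup.closure_le _).2 ?_)
  rintro _ ⟨P, φ, x, hφ, rfl⟩
  exact h P φ hφ x

end Cfsg.Agent.Lib.FusionRankTwo.Simple
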