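import Cfsg.Agent.Lib.FourShapes25.WreathedFus

/-!
A system over one of the four shapes with the flags of a model is realised in that model.
-/

set_option autoImplicit false
set_option linter.style.haveILetI false
set_option linter.unusedSectionVars false

namespace Cfsg.Agent.Lib.FusionRankTwo.Transfer

open Cfsg Cfsg.FusionSystem Cfsg.Agent.Lib.FS
open Cfsg.Agent.Lib Cfsg.Agent.Lib.FourShapes25 Cfsg.Agent.Lib.TwoGroups Cfsg.Agent.Lib.TwoGroups.Recognition
open Cfsg.Agent.Lib.FusionEssential.Transport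

universe u

theorem realizedBy_of_model {Ω : Type u} [Group Ω] {S : Subgroup Ω} [Finite S] (hS : IsPGroup 2 S)
    {F : FusionSystem S} (hF : F.IsSaturated 2) {G : Type} [Group G] [Finite G] (T : Sylow 2 G)
    (ι : S →* G) (hι : Function.Injective ι) (hT : ι.range = (T : Subgroup G))
    (hcmp : ∀ F' : FusionSystem (T : Subgroup G), F'.IsSaturated 2 → Iso ι F F' →
      F' = groupFusionSystem (T : Subgroup G)) :
    ∃ ι : S →* G, F.IsRealizedBy ι ∧ ι.range = (T : Subgroup G) := by
  haveI : Fact (Nat.Prime 2) := ⟨Nat.prime_two⟩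
  obtain ⟨F', hF'⟩ : ∃ F' : FusionSystem (T : Subgroup G), Iso ι F F' := by
    rw [← hT]; exact exists_iso F hι
  have he := hcmp F' (hF'.isSaturated hS hF) hF'
  subst he
  exact ⟨ι, realized_of_iso hF', hT⟩

namespace Cyc

variable {k : ℕ} {r s : ZMod (2 ^ (k + 2))}

theorem realizedBy_of_flags {Ω : Type u} [Group Ω] {S : Subgroup Ω} [Finite S] (hS : IsPGroup 2 S)
    {x y : S} (D : Shape k r s x y) {F : FusionSystem S} (hF : F.IsSaturated 2)
    {G : Type} [Group G] [Finite G] {T : Sylow 2 G} {x' y' : (T : Subgroup G)} (D' : Shape k r s x' y')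
    (h : ∀ p, HasThree (F.autGroup (D.cand p)) ↔
      HasThree ((groupFusionSystem (T : Subgroup G)).autGroup (D'.cand p))) :
    ∃ ι : S →* G, F.IsRealizedBy ι ∧ ι.range = (T : Subgroup G) := by
  haveI : Fact (Nat.Prime 2) := ⟨Nat.prime_two⟩
  obtain ⟨f, f1, f2⟩ := D.exists_equiv D'
  refine realizedBy_of_model hS hF T ((T : Subgroup G).subtype.comp f.toMonoidHom)
    ((T : Subgroup G).subtype_injective.comp f.injective) ?_ fun F' hF' hiso => ?_
  · rw [MonoidHom.range_comp, MonoidHom.range_eq_top.2 f.surjective, ← MonoidHom.range_eq_map,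
      Subgroup.range_subtype]
  refine D'.eq_of_flags T.2 hF' (isSaturated_group T) fun p => ?_
  rw [← h p]
  refine (hasThree_image hiso (D.cand_le p) ?_).symm
  have hsub : (D.cand p).subgroupOf S = D.sub p :=
    Subgroup.comap_map_eq_self_of_injective S.subtype_injective _
  rw [imageAlong, hsub, ← Subgroup.map_map, Shape.cand]
  congr 1
  ext w
  constructor
  · rintro ⟨j, hj, rfl | rfl⟩
    · exact ⟨_, D.c_mem_sub_iff.2 hj, f1 j⟩
    · exact ⟨_, ⟨j, hj, Or.inr rfl⟩, f2 _⟩
  · rintro ⟨_, ⟨j, hj, rfl | rfl⟩, rfl⟩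
    · exact ⟨j, hj, Or.inl (f1 j)⟩
    · exact ⟨j, hj, Or.inr (f2 _)⟩

end Cyc

namespace Wre

open Cfsg.Agent.Lib.FourShapes25.Wr
open Wreathed WreathedShape

variable {k : ℕ}

theorem realizedBy_of_flags {Ω : Type u} [Group Ω] {S : Subgroup Ω} [Finite S] (hS : IsPGroup 2 S)
    {x y z : S} (D : Data k x y z) {F : FusionSystem S} (hF : F.IsSaturated 2)
    {G : Type} [Group G] [Finite G] {T : Sylow 2 G} {x' y' z' : (T : Subgroup G)}
    (D' : Data k x' y' z')
    (h : ∀ p, HasThree (F.autGroup (cand D p)) ↔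
      HasThree ((groupFusionSystem (T : Subgroup G)).autGroup (cand D' p))) :
    ∃ ι : S →* G, F.IsRealizedBy ι ∧ ι.range = (T : Subgroup G) := by
  haveI : Fact (Nat.Prime 2) := ⟨Nat.prime_two⟩
  obtain ⟨x₁, y₁, D₁, hn₁, hf₁⟩ := exists_adapted hS D hF
  obtain ⟨x₂, y₂, D₂, hn₂, hf₂⟩ := exists_adapted T.2 D' (isSaturated_group T)
  obtain ⟨f, f1, -, fb, fq⟩ := exists_equiv D₁ D₂
  refine realizedBy_of_model hS hF T ((T : Subgroup G).subtype.comp f.toMonoidHom)
    ((T : Subgroup G).subtype_injective.comp f.injective) ?_ fun F' hF' hiso => ?_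
  · rw [MonoidHom.range_comp, MonoidHom.range_eq_top.2 f.surjective, ← MonoidHom.range_eq_map,
      Subgroup.range_subtype]
  have himg : ∀ p, cand D₂ p = imageAlong ((T : Subgroup G).subtype.comp f.toMonoidHom) (cand D₁ p) := by
    intro p
    cases p
    · show D₂.base.map _ = _
      rw [imageAlong, show (cand D₁ false).subgroupOf S = D₁.base from
        Subgroup.comap_map_eq_self_of_injective S.subtype_injective _, ← Subgroup.map_map, fb]
    · show (WreathedAut.qzSub D₂ 0).map _ = _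
      rw [imageAlong, show (cand D₁ true).subgroupOf S = WreathedAut.qzSub D₁ 0 from
        Subgroup.comap_map_eq_self_of_injective S.subtype_injective _, ← Subgroup.map_map, fq]
  have hflag : ∀ p, HasThree (F'.autGroup (cand D₂ p)) ↔
      HasThree ((groupFusionSystem (T : Subgroup G)).autGroup (cand D₂ p)) := fun p =>
    (hasThree_image hiso (cand_le D₁ p) (himg p)).symm.trans (((hf₁ p).trans (h p)).trans (hf₂ p).symm)
  have hn' : Adapted D₂ F' := by
    intro h3
    obtain ⟨α, hα, hαe⟩ := hn₁ ((hasThree_image hiso (cand_le D₁ false) (himg false)).2 h3)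
    obtain ⟨α', hα', he⟩ := exists_aut_push hiso.2.1 (cand_le D₁ false) hα (himg false)
    refine ⟨α', hα', fun i j hij => ?_⟩
    have hm : ((el k x₁ y₁ i j : S) : Ω) ∈ cand D₁ false := ⟨_, D₁.e_mem_base i j, rfl⟩
    have e1 : ((T : Subgroup G).subtype.comp f.toMonoidHom) (el k x₁ y₁ i j) =
        ((el k x₂ y₂ i j : (T : Subgroup G)) : G) := congrArg Subtype.val (f1 i j)
    have h1 := he ⟨_, hm⟩ (by show ((T : Subgroup G).subtype.comp f.toMonoidHom) (el k x₁ y₁ i j) ∈ _
                              rw [e1]; exact hij)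
    have h2 : (⟨((α ⟨_, hm⟩ : cand D₁ false) : Ω), cand_le D₁ false (α ⟨_, hm⟩).2⟩ : S) =
        el k x₁ y₁ (-j) (i - j) := Subtype.ext (hαe i j hm)
    rw [h2] at h1
    refine Eq.trans ?_ (h1.trans (congrArg Subtype.val (f1 (-j) (i - j))))
    congr 2
    exact Subtype.ext e1.symm
  exact fusion_le_antisymm
    (le_of_flags T.2 D₂ hF' (isSaturated_group T) hn' hn₂ fun p => (hflag p).1)
    (le_of_flags T.2 D₂ (isSaturated_group T) hF' hn₂ hn' fun p => (hflag p).2)

end Wre

end Cfsg.Agent.Lib.FusionRankTwo.Transfer
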