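import Cfsg.Agent.Lib.FusionRankTwo.Simple
import Cfsg.Agent.Lib.FusionRankTwo.Transfer
import Cfsg.Agent.Lib.FusionRankTwo.Models

/-!
Simple fusion systems over 2-groups of rank two are those of projective special linear groups.
-/

set_option autoImplicit false
set_option linter.style.haveILetI false

namespace Cfsg.Agent.Lib.FusionRankTwo.SimpleRealize

open Cfsg Cfsg.FusionSystem Cfsg.Agent.Lib.FS
open Cfsg.Agent.Lib Cfsg.Agent.Lib.FourShapes25 Cfsg.Agent.Lib.TwoGroups Cfsg.Agent.Lib.TwoGroups.Recognition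

universe u

variable {Ω : Type u} [Group Ω] {S : Subgroup Ω} [Finite S] {F : FusionSystem S}

/-- The shape of a dihedral group. -/
theorem exists_shape_dih {S : Type*} [Group S] [Finite S] (hS : IsPGroup 2 S) {m : ℕ} (hm : 4 ≤ m)
    (e : S ≃* DihedralGroup m) :
    ∃ (k : ℕ) (x y : S), Shape k (-1) 0 x y := by
  have hc : Nat.card S = 2 * m := by rw [Nat.card_congr e.toEquiv, DihedralGroup.nat_card]
  obtain ⟨j, rfl⟩ := exists_two_pow hS hc
  obtain ⟨k, rfl⟩ : ∃ k, j = k + 2 := ⟨j - 2, by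
    rcases j with _ | _ | j <;> simp at hm ⊢⟩
  refine ⟨k, e.symm (DihedralGroup.r 1), e.symm (DihedralGroup.sr 0),
    ⟨⟨by positivity, ?_, hc, ?_, ?_, ?_⟩, Or.inl ⟨rfl, Or.inl rfl⟩⟩⟩
  · rw [MulEquiv.orderOf_eq, DihedralGroup.orderOf_r_one]
  · rintro ⟨i, hi⟩
    have h := congrArg e hi
    simp [DihedralGroup.r_one_zpow] at h
  · apply e.injective
    rw [map_mul, map_mul, map_inv, ← MonoidHom.coe_coe, powZ_map, MonoidHom.coe_coe]
    simp only [MulEquiv.apply_symm_apply]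
    rw [powZ_neg (pow_eq_one_of_orderOf DihedralGroup.orderOf_r_one),
      powZ_one (pow_eq_one_of_orderOf DihedralGroup.orderOf_r_one)]
    simp
  · apply e.injective
    rw [powZ_zero, map_mul, map_one, MulEquiv.apply_symm_apply, DihedralGroup.sr_mul_self]

/-- Both classes are active in a simple system. -/
theorem flags_shape (hS : IsPGroup 2 S) (hs : F.IsSimple 2) (hcard : Nat.card S ≠ 2) {k : ℕ}
    {r s : ZMod (2 ^ (k + 2))} {x y : S} (D : Shape k r s x y)
    (hk : r = -1 → s = 0 ∨ 1 ≤ k) (q : Bool) : HasThree (F.autGroup (D.cand q)) := by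
  haveI : Fact (Nat.Prime 2) := ⟨Nat.prime_two⟩
  by_contra hq
  have he : Shape.expo r s (!q) = 2 ∨ 1 ≤ k := by
    rcases D.kind with ⟨rfl, hs'⟩ | ⟨-, -, h1⟩
    · rcases hk rfl with rfl | h1
      · left
        unfold Shape.expo
        rw [if_pos]
        ring
      · exact Or.inr h1
    · exact Or.inr h1
  have h : S ≤ (D.maxPart (!q)).map S.subtype := Simple.le_of_displacements hS hs hcard
    (focal_bound hS hs.1 D.cand_le D.covers
      (fun a ha b hb => ⟨_, D.evenPart_le_maxPart _ (D.conj_mem_evenPart ⟨a, ha⟩ ⟨b, hb⟩), rfl⟩)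
      fun i hi => by
        obtain rfl : i = !q := by
          have h3 := D.flag_of_not_isPGroup hi
          cases i <;> cases q <;> first | rfl | exact absurd h3 hq
        exact Subgroup.map_mono (D.sub_le_maxPart _ he))
  obtain ⟨w, hw, hwe⟩ := h (powZ (2 ^ (k + 2)) x (rep q) * y).2
  have h2 := D.rep_notMem_maxPart (!q)
  rw [Bool.not_not] at h2
  exact h2 (Subtype.ext hwe ▸ hw)

open Cfsg.Agent.Lib.FourShapes25.Wr in
/-- Both classes are active in a simple system, wreathed case. -/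
theorem flags_wr (hS : IsPGroup 2 S) (hs : F.IsSimple 2) (hcard : Nat.card S ≠ 2) {k : ℕ}
    {x y z : S} (D : Wreathed.Data k x y z) (q : Bool) : HasThree (F.autGroup (Wr.cand D q)) := by
  haveI : Fact (Nat.Prime 2) := ⟨Nat.prime_two⟩
  by_contra hq
  have key : ∀ M : Subgroup S, _root_.commutator S ≤ M →
      (∀ i, i ≠ q → Wr.cand D i ≤ M.map S.subtype) → ∀ g : S, g ∈ M := by
    intro M hM hC g
    have h : S ≤ M.map S.subtype := Simple.le_of_displacements hS hs hcard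
      (focal_bound hS hs.1 (Wr.cand_le D) (Wr.covers D)
        (fun a ha b hb => ⟨_, hM (WreathedShape.conj_mem_commutator ⟨a, ha⟩ ⟨b, hb⟩), rfl⟩)
        fun i hi => hC i fun e => hq (e ▸ hasThree_of_not_isPGroup hS D hs.1 hi))
    obtain ⟨w, hw, hwe⟩ := h g.2
    exact Subtype.ext hwe ▸ hw
  cases q
  · refine x_notMem_evenSum D (key _ (WreathedShape.commutator_le_evenSum D) (fun i hi => ?_) _)
    cases i
    · exact absurd rfl hi
    · exact Subgroup.map_mono (WreathedShape.qz_le_evenSum D 0)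
  · refine D.z_notMem (key _ (WreathedShape.commutator_le_base D) (fun i hi => ?_) z)
    cases i
    · exact le_rfl
    · exact absurd rfl hi

/-- The dihedral case. -/
theorem of_dih (hS : IsPGroup 2 S) (hs : F.IsSimple 2) (hcard : Nat.card S ≠ 2) {k : ℕ}
    {x y : S} (D : Shape k (-1) 0 x y) :
    ∃ (p : ℕ) (_ : Fact p.Prime), Odd p ∧ p % 8 = 1 ∧
      ∃ ι : S →* Matrix.ProjectiveSpecialLinearGroup (Fin 2) (ZMod p), F.IsRealizedBy ι ∧
        ∃ T : Sylow 2 (Matrix.ProjectiveSpecialLinearGroup (Fin 2) (ZMod p)),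
          (T : Subgroup (Matrix.ProjectiveSpecialLinearGroup (Fin 2) (ZMod p))) = ι.range := by
  obtain ⟨p, hp, hodd, h8, x₁, y₁, W, hper⟩ := Models.dih_psl k
  obtain ⟨T, x', y', D', -, -⟩ := W.exists_shape
  obtain ⟨ι, hι, hT⟩ := Transfer.Cyc.realizedBy_of_flags hS D hs.1 D' fun q =>
    iff_of_true (flags_shape hS hs hcard D (fun _ => Or.inl rfl) q)
      (D'.flag_of_mem (hper ▸ Subgroup.mem_top _))
  exact ⟨p, hp, hodd, h8, ι, hι, T, hT.symm⟩

/-- The semidihedral case. -/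
theorem of_sd (hS : IsPGroup 2 S) (hs : F.IsSimple 2) (hcard : Nat.card S ≠ 2) {k : ℕ} (hk : 1 ≤ k)
    {x y : S} (D : Shape k (half k - 1) 0 x y) :
    ∃ (p : ℕ) (_ : Fact p.Prime), Odd p ∧
      ∃ ι : S →* Matrix.ProjectiveSpecialLinearGroup (Fin 3) (ZMod p), F.IsRealizedBy ι ∧
        ∃ T : Sylow 2 (Matrix.ProjectiveSpecialLinearGroup (Fin 3) (ZMod p)),
          (T : Subgroup (Matrix.ProjectiveSpecialLinearGroup (Fin 3) (ZMod p))) = ι.range := by
  obtain ⟨p, hp, hodd, x₁, y₁, W, hper⟩ := Models.sd_psl hk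
  obtain ⟨T, x', y', D', -, -⟩ := W.exists_shape
  obtain ⟨ι, hι, hT⟩ := Transfer.Cyc.realizedBy_of_flags hS D hs.1 D' fun q =>
    iff_of_true (flags_shape hS hs hcard D (fun _ => Or.inr hk) q)
      (D'.flag_of_mem (hper ▸ Subgroup.mem_top _))
  exact ⟨p, hp, hodd, ι, hι, T, hT.symm⟩

/-- The wreathed case. -/
theorem of_wr (hS : IsPGroup 2 S) (hs : F.IsSimple 2) (hcard : Nat.card S ≠ 2) {k : ℕ}
    {x y z : S} (D : Wreathed.Data k x y z) :
    ∃ (p : ℕ) (_ : Fact p.Prime), Odd p ∧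
      ∃ ι : S →* Matrix.ProjectiveSpecialLinearGroup (Fin 3) (ZMod p), F.IsRealizedBy ι ∧
        ∃ T : Sylow 2 (Matrix.ProjectiveSpecialLinearGroup (Fin 3) (ZMod p)),
          (T : Subgroup (Matrix.ProjectiveSpecialLinearGroup (Fin 3) (ZMod p))) = ι.range := by
  obtain ⟨p, hp, hodd, T, x', y', z', D', h'⟩ := Models.wr_psl k
  obtain ⟨ι, hι, hT⟩ := Transfer.Wre.realizedBy_of_flags hS D hs.1 D' fun q =>
    iff_of_true (flags_wr hS hs hcard D q) (h' q)
  exact ⟨p, hp, hodd, ι, hι, T, hT.symm⟩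

theorem main (hS : IsPGroup 2 S) (hr : RankTwo S) (hcard : 4 ≤ Nat.card S) (hs : F.IsSimple 2)
    {K : Type*} [Field K] [Fintype K] (hK : Fintype.card K = 16) :
    ((∃ m : ℕ, Nonempty (↥S ≃* DihedralGroup m)) ∨ Cfsg.IsQuasiDihedral ↥S ∨ Cfsg.IsWreathed ↥S) ∧
      ((∃ (p : ℕ) (_ : Fact p.Prime), Odd p ∧ p % 8 = 1 ∧
        ∃ ι : S →* Matrix.ProjectiveSpecialLinearGroup (Fin 2) (ZMod p), F.IsRealizedBy ι ∧
          ∃ T : Sylow 2 (Matrix.ProjectiveSpecialLinearGroup (Fin 2) (ZMod p)),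
            (T : Subgroup (Matrix.ProjectiveSpecialLinearGroup (Fin 2) (ZMod p))) = ι.range) ∨
      ∃ (p : ℕ) (_ : Fact p.Prime), Odd p ∧
        ∃ ι : S →* Matrix.ProjectiveSpecialLinearGroup (Fin 3) (ZMod p), F.IsRealizedBy ι ∧
          ∃ T : Sylow 2 (Matrix.ProjectiveSpecialLinearGroup (Fin 3) (ZMod p)),
            (T : Subgroup (Matrix.ProjectiveSpecialLinearGroup (Fin 3) (ZMod p))) = ι.range) := by
  haveI : Fact (Nat.Prime 2) := ⟨Nat.prime_two⟩
  have hc2 : Nat.card S ≠ 2 := by omega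
  have hn : ¬ F.IsNormal S := fun h => hs.2.1 (Simple.eq_bot_of_isNormal hS hs hc2 h)
  rcases cases hS hs.1 hr hs.2.1 (Simple.center_eq_bot hS hs hc2) hK with ⟨m, ⟨e⟩⟩ | h | h | h | h
  · refine ⟨Or.inl ⟨m, ⟨e⟩⟩, Or.inl ?_⟩
    have hm : 4 ≤ m := by
      by_contra hm
      refine hn (isNormal_base_of_abelian hS hs.1 ?_)
      have hfin : Finite (DihedralGroup m) := Finite.of_equiv _ e.toEquiv
      have hm0 : m ≠ 0 := fun h0 => by
        subst h0
        exact not_finite (DihedralGroup 0)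
      haveI : NeZero m := ⟨hm0⟩
      obtain ⟨j, hj⟩ := IsPGroup.iff_card.1 hS
      rw [Nat.card_congr e.toEquiv, DihedralGroup.nat_card] at hj
      have hm3 : m ≠ 3 := by
        rintro rfl
        rcases j with _ | _ | _ | j
        · norm_num at hj
        · norm_num at hj
        · norm_num at hj
        · rw [pow_add] at hj; omega
      intro x y
      apply e.injective
      rw [map_mul, map_mul]
      have key : ∀ a b : DihedralGroup m, a * b = b * a := by
        have : m = 1 ∨ m = 2 := by omega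
        rcases this with rfl | rfl <;> decide
      exact key _ _
    obtain ⟨k, x, y, D⟩ := exists_shape_dih hS hm e
    exact of_dih hS hs hc2 D
  · refine ⟨Or.inr (Or.inl h), Or.inr ?_⟩
    obtain ⟨k, x, y, D⟩ := QuasiDihedral.exists_QD h
    exact of_sd hS hs hc2 (k := k + 1) (by omega) (x := x) (y := y) ⟨D, Or.inr ⟨rfl, rfl, by omega⟩⟩
  · refine ⟨Or.inr (Or.inr h), Or.inr ?_⟩
    obtain ⟨k, x, y, z, D⟩ := Wreathed.exists_data h
    exact of_wr hS hs hc2 D
  · exact absurd (isNormal_base_of_abelian hS hs.1 h.comm) hn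
  · exact absurd (isNormal_base_of_u34 hS hs.1 hK h) hn

end Cfsg.Agent.Lib.FusionRankTwo.SimpleRealize
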